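import Mathlib

/-!
An irreducible module for `SL₂(F)` in characteristic `p` with quadratic unipotent elements, or with
large fixed space of a Sylow `p`-subgroup, is the natural module.
-/

set_option autoImplicit false
set_option linter.style.haveILetI false

open Matrix
open scoped MatrixGroups

namespace CfsgLib.TwoGroupTricks.SL2Natural

variable {F : Type*} [Field F]

local notation "M₂" => Matrix (Fin 2) (Fin 2) F

/-- Upper unitriangular elements. -/
def xM (u : F) : SL(2, F) := ⟨!![1, u; 0, 1], by simp [det_fin_two_of]⟩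

/-- Lower unitriangular elements. -/
def yM (u : F) : SL(2, F) := ⟨!![1, 0; u, 1], by simp [det_fin_two_of]⟩

/-- The standard element of order four. -/
def nM : SL(2, F) := ⟨!![0, -1; 1, 0], by simp [det_fin_two_of]⟩

/-- Diagonal elements. -/
def dM (s : Fˣ) : SL(2, F) := ⟨!![(s : F), 0; 0, ((s⁻¹ : Fˣ) : F)], by simp [det_fin_two_of]⟩

theorem xM_coe (u : F) : (xM u : M₂) = !![1, u; 0, 1] := rfl

theorem nM_coe : ((nM : SL(2, F)) : M₂) = !![0, -1; 1, 0] := rfl

theorem xM_add (u v : F) : xM (u + v) = xM u * xM v := by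
  apply Subtype.ext
  rw [Matrix.SpecialLinearGroup.coe_mul]
  ext i j; fin_cases i <;> fin_cases j <;> simp [xM, Matrix.mul_apply, add_comm]

theorem xM_zero : xM (0 : F) = 1 := by
  apply Subtype.ext; ext i j; fin_cases i <;> fin_cases j <;> simp [xM]

theorem yM_mul_nM (u : F) : yM u * nM = nM * xM (-u) := by
  apply Subtype.ext
  rw [Matrix.SpecialLinearGroup.coe_mul, Matrix.SpecialLinearGroup.coe_mul]
  ext i j; fin_cases i <;> fin_cases j <;> simp [xM, yM, nM, Matrix.mul_apply]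

theorem nM_dM (s : Fˣ) : dM s * nM = nM * dM s⁻¹ := by
  apply Subtype.ext
  rw [Matrix.SpecialLinearGroup.coe_mul, Matrix.SpecialLinearGroup.coe_mul]
  ext i j; fin_cases i <;> fin_cases j <;> simp [dM, nM, Matrix.mul_apply]

theorem nM_nM : nM * nM = dM (-1 : Fˣ) := by
  apply Subtype.ext
  rw [Matrix.SpecialLinearGroup.coe_mul]
  ext i j; fin_cases i <;> fin_cases j <;> simp [dM, nM, Matrix.mul_apply]

theorem xM_dM (s : Fˣ) (u : F) : xM u * dM s = dM s * xM (u * ((s⁻¹ : Fˣ) : F) ^ 2) := by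
  apply Subtype.ext
  rw [Matrix.SpecialLinearGroup.coe_mul, Matrix.SpecialLinearGroup.coe_mul]
  ext i j; fin_cases i <;> fin_cases j <;> simp [dM, xM, Matrix.mul_apply]
  field_simp

theorem dM_mul (s t : Fˣ) : dM (s * t) = dM s * dM t := by
  apply Subtype.ext
  rw [Matrix.SpecialLinearGroup.coe_mul]
  ext i j; fin_cases i <;> fin_cases j <;> simp [dM, Matrix.mul_apply, mul_comm]

theorem dM_one : dM (1 : Fˣ) = 1 := by
  apply Subtype.ext; ext i j; fin_cases i <;> fin_cases j <;> simp [dM]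

theorem nM_mul_dM (s : Fˣ) :
    xM (-((s⁻¹ : Fˣ) : F)) * yM (s : F) * xM (-((s⁻¹ : Fˣ) : F)) = nM * dM s := by
  apply Subtype.ext
  simp only [Matrix.SpecialLinearGroup.coe_mul]
  ext i j; fin_cases i <;> fin_cases j <;> simp [dM, xM, yM, nM, Matrix.mul_apply]

theorem nM_eq : xM (-1 : F) * yM 1 * xM (-1) = nM := by
  apply Subtype.ext
  simp only [Matrix.SpecialLinearGroup.coe_mul]
  ext i j; fin_cases i <;> fin_cases j <;> simp [xM, yM, nM, Matrix.mul_apply]

/-- Induction on elements of `SL₂`. -/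
theorem induction_xy {P : SL(2, F) → Prop} (hx : ∀ u, P (xM u)) (hy : ∀ u, P (yM u))
    (hmul : ∀ g h, P g → P h → P (g * h)) (g : SL(2, F)) : P g := by
  have key : ∀ k : SL(2, F), (k : M₂) 1 0 ≠ 0 → P k := by
    intro k hc
    have hd := k.2
    rw [det_fin_two] at hd
    have : k = xM (((k : M₂) 0 0 - 1) / (k : M₂) 1 0) * yM ((k : M₂) 1 0) *
        xM (((k : M₂) 1 1 - 1) / (k : M₂) 1 0) := by
      apply Subtype.ext
      simp only [Matrix.SpecialLinearGroup.coe_mul]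
      ext i j; fin_cases i <;> fin_cases j <;> simp [xM, yM, Matrix.mul_apply] <;> field_simp
      all_goals first
        | linear_combination hd
        | linear_combination -hd
        | ring
    rw [this]
    exact hmul _ _ (hmul _ _ (hx _) (hy _)) (hx _)
  by_cases hc : (g : M₂) 1 0 = 0
  · have hd := g.2
    rw [det_fin_two, hc, mul_zero, sub_zero] at hd
    have h1 : g = g * yM 1 * yM (-1) := by
      apply Subtype.ext
      simp only [Matrix.SpecialLinearGroup.coe_mul]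
      ext i j; fin_cases i <;> fin_cases j <;> simp [yM, Matrix.mul_apply]
    rw [h1]
    refine hmul _ _ (key _ ?_) (hy _)
    simp only [Matrix.SpecialLinearGroup.coe_mul]
    simp [yM, Matrix.mul_apply, hc]
    intro h0
    rw [h0, mul_zero] at hd
    exact zero_ne_one hd
  · exact key g hc

variable {V : Type*} [CommGroup V] [Finite V] (Φ : SL(2, F) →* MulAut V)

/-- The fixed points of the upper unitriangular group. -/
def fixX : Subgroup V where
  carrier := {v | ∀ u, Φ (xM u) v = v}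
  one_mem' := fun u => map_one _
  mul_mem' := fun ha hb u => by rw [map_mul, ha u, hb u]
  inv_mem' := fun ha u => by rw [map_inv, ha u]

/-- The fixed points of the lower unitriangular group. -/
def fixY : Subgroup V := (fixX Φ).map (Φ nM).toMonoidHom

/-- The subgroup of `fixY` fixed by the upper unitriangular group modulo `fixX`. -/
def fixYX : Subgroup V where
  carrier := {w | w ∈ fixY Φ ∧ ∀ u, Φ (xM u) w * w⁻¹ ∈ fixX Φ}
  one_mem' := ⟨one_mem _, fun u => by rw [map_one, mul_inv_cancel]; exact one_mem _⟩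
  mul_mem' := fun {a b} ha hb => ⟨mul_mem ha.1 hb.1, fun u => by
    rw [map_mul, mul_inv, mul_mul_mul_comm]; exact mul_mem (ha.2 u) (hb.2 u)⟩
  inv_mem' := fun {a} ha => ⟨inv_mem ha.1, fun u => by
    rw [map_inv, ← mul_inv]; exact inv_mem (ha.2 u)⟩

omit [Finite V] in
theorem apply_mul (g h : SL(2, F)) (v : V) : Φ (g * h) v = Φ g (Φ h v) := by rw [map_mul]; rfl

omit [Finite V] in
theorem fixY_apply_yM {w : V} (hw : w ∈ fixY Φ) (u : F) : Φ (yM u) w = w := by
  obtain ⟨a, ha, rfl⟩ := hw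
  show Φ (yM u) (Φ nM a) = Φ nM a
  rw [← apply_mul, yM_mul_nM, apply_mul, ha]

omit [Finite V] in
theorem dM_mem_fixX (s : Fˣ) {a : V} (ha : a ∈ fixX Φ) : Φ (dM s) a ∈ fixX Φ := by
  intro u
  rw [← apply_mul, xM_dM, apply_mul, ha]

omit [Finite V] in
theorem nM_mem_fixY {a : V} (ha : a ∈ fixX Φ) : Φ nM a ∈ fixY Φ := ⟨a, ha, rfl⟩

omit [Finite V] in
theorem nM_mem_fixX {w : V} (hw : w ∈ fixY Φ) : Φ nM w ∈ fixX Φ := by
  obtain ⟨a, ha, rfl⟩ := hw
  show Φ nM (Φ nM a) ∈ fixX Φ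
  rw [← apply_mul, nM_nM]
  exact dM_mem_fixX Φ _ ha

omit [Finite V] in
theorem dM_mem_fixY (s : Fˣ) {w : V} (hw : w ∈ fixY Φ) : Φ (dM s) w ∈ fixY Φ := by
  obtain ⟨a, ha, rfl⟩ := hw
  show Φ (dM s) (Φ nM a) ∈ fixY Φ
  rw [← apply_mul, nM_dM, apply_mul]
  exact nM_mem_fixY Φ (dM_mem_fixX Φ _ ha)

omit [Finite V] in
theorem dM_mem_fixYX (s : Fˣ) {w : V} (hw : w ∈ fixYX Φ) : Φ (dM s) w ∈ fixYX Φ := by
  refine ⟨dM_mem_fixY Φ s hw.1, fun u => ?_⟩
  rw [← apply_mul, xM_dM, apply_mul, ← map_inv, ← map_mul]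
  exact dM_mem_fixX Φ _ (hw.2 _)

variable (hirr : ∀ H : Subgroup V, (∀ g, ∀ v ∈ H, Φ g v ∈ H) → H = ⊥ ∨ H = ⊤)
  (hnt : ∃ (g : SL(2, F)) (v : V), Φ g v ≠ v)

include hirr hnt

theorem fixX_inf_fixY : fixX Φ ⊓ fixY Φ = ⊥ := by
  refine (hirr _ fun g v hv => ?_).resolve_right fun h => ?_
  · have : Φ g v = v := by
      refine induction_xy (P := fun g => Φ g v = v) hv.1 (fixY_apply_yM Φ hv.2)
        (fun g k hg hk => ?_) g
      rw [apply_mul, hk, hg]
    rwa [this]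
  · obtain ⟨g, v, hgv⟩ := hnt
    have hv : v ∈ fixX Φ ⊓ fixY Φ := h ▸ Subgroup.mem_top v
    refine hgv (induction_xy (P := fun g => Φ g v = v) hv.1 (fixY_apply_yM Φ hv.2)
      (fun g k hg hk => ?_) g)
    rw [apply_mul, hk, hg]

theorem eq_of_mul_eq {a a' b b' : V} (ha : a ∈ fixX Φ) (ha' : a' ∈ fixX Φ) (hb : b ∈ fixY Φ)
    (hb' : b' ∈ fixY Φ) (h : a * b = a' * b') : a = a' ∧ b = b' := by
  have h1 : a / a' = b' / b := by rw [div_eq_div_iff_mul_eq_mul, h, mul_comm]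
  have h2 : a / a' = 1 := by
    rw [← Subgroup.mem_bot, ← fixX_inf_fixY Φ hirr hnt]
    exact Subgroup.mem_inf.2 ⟨(fixX Φ).div_mem ha ha', h1 ▸ (fixY Φ).div_mem hb' hb⟩
  have h3 : a = a' := div_eq_one.1 h2
  exact ⟨h3, mul_left_cancel (h3 ▸ h)⟩

theorem apply_xM {w : V} (hw : w ∈ fixYX Φ) (s : Fˣ) :
    Φ (xM (-((s⁻¹ : Fˣ) : F))) w = Φ (nM * dM s) w * w := by
  set a := Φ (xM ((s⁻¹ : Fˣ) : F)) w * w⁻¹
  set b := Φ (xM (-((s⁻¹ : Fˣ) : F))) w * w⁻¹ with hb
  have ha : a ∈ fixX Φ := hw.2 _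
  have h1 : Φ (nM * dM s) (a * w) = b * w := by
    simp only [a, hb, inv_mul_cancel_right]
    rw [← nM_mul_dM, ← apply_mul, mul_assoc, ← xM_add, neg_add_cancel, xM_zero, mul_one, apply_mul,
      fixY_apply_yM Φ hw.1]
  rw [map_mul, mul_comm] at h1
  have h2 := eq_of_mul_eq Φ hirr hnt (by rw [apply_mul]; exact nM_mem_fixX Φ (dM_mem_fixY Φ s hw.1))
    (hw.2 _) (by rw [apply_mul]; exact nM_mem_fixY Φ (dM_mem_fixX Φ s ha)) hw.1 h1
  rw [h2.1, inv_mul_cancel_right]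

/-- A diagonally invariant nontrivial subgroup of `fixYX` contains `fixY`. -/
theorem fixY_le {W : Subgroup V} (hW : W ≤ fixYX Φ) (hD : ∀ s, ∀ w ∈ W, Φ (dM s) w ∈ W)
    (hne : W ≠ ⊥) : fixY Φ ≤ W := by
  set M := W.map (Φ nM).toMonoidHom ⊔ W
  have hWX : W.map (Φ nM).toMonoidHom ≤ fixX Φ := by
    rintro _ ⟨w, hw, rfl⟩; exact nM_mem_fixX Φ (hW hw).1
  have hx : ∀ u, ∀ v ∈ M, Φ (xM u) v ∈ M := by
    intro u v hv
    obtain ⟨y, hy, z, hz, rfl⟩ := Subgroup.mem_sup.1 hv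
    rw [map_mul, hWX hy u]
    refine mul_mem (Subgroup.mem_sup_left hy) ?_
    by_cases hu : u = 0
    · rw [hu, xM_zero, map_one]; exact Subgroup.mem_sup_right hz
    · have h := apply_xM Φ hirr hnt (hW hz) (-(Units.mk0 u hu)⁻¹)
      rw [show -(((-(Units.mk0 u hu)⁻¹)⁻¹ : Fˣ) : F) = u by simp] at h
      rw [h, apply_mul]
      exact mul_mem (Subgroup.mem_sup_left ⟨_, hD _ _ hz, rfl⟩) (Subgroup.mem_sup_right hz)
  have hn : ∀ v ∈ M, Φ nM v ∈ M := by
    intro v hv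
    obtain ⟨y, ⟨w, hw, rfl⟩, z, hz, rfl⟩ := Subgroup.mem_sup.1 hv
    rw [map_mul]
    refine mul_mem ?_ (Subgroup.mem_sup_left ⟨z, hz, rfl⟩)
    show Φ nM (Φ nM w) ∈ M
    rw [← apply_mul, nM_nM]
    exact Subgroup.mem_sup_right (hD _ _ hw)
  have hy : ∀ u, ∀ v ∈ M, Φ (yM u) v ∈ M := by
    intro u v hv
    have h4 : nM * (nM * (nM * nM)) = (1 : SL(2, F)) := by
      rw [← mul_assoc, nM_nM, ← dM_mul, neg_mul_neg, one_mul, dM_one]
    have : yM u = nM * xM (-u) * nM * nM * nM := by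
      rw [← yM_mul_nM]
      simp only [mul_assoc]
      rw [h4, mul_one]
    rw [this, apply_mul, apply_mul, apply_mul, apply_mul]
    exact hn _ (hx _ _ (hn _ (hn _ (hn _ hv))))
  have hinv : ∀ g, ∀ v ∈ M, Φ g v ∈ M := fun g => induction_xy (P := fun g => ∀ v ∈ M, Φ g v ∈ M)
    hx hy (fun g k hg hk v hv => by rw [apply_mul]; exact hg _ (hk _ hv)) g
  have htop : M = ⊤ := (hirr M hinv).resolve_left fun h => hne (le_bot_iff.1 (h ▸ le_sup_right))
  intro b hb
  obtain ⟨y, hy, z, hz, hyz⟩ := Subgroup.mem_sup.1 (htop ▸ Subgroup.mem_top b : b ∈ M)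
  have := eq_of_mul_eq Φ hirr hnt (hWX hy) (one_mem _) (hW hz).1 hb (by rw [hyz, one_mul])
  exact this.2 ▸ hz

omit hirr in
theorem fixYX_ne_bot {p n : ℕ} [Fact p.Prime] [Finite F] (hF : Nat.card F = p ^ n) (hV : IsPGroup p V)
    (hdec : ∀ v : V, ∃ a ∈ fixX Φ, ∃ b ∈ fixY Φ, a * b = v) : fixYX Φ ≠ ⊥ := by
  intro hbot
  have hne : fixX Φ ≠ ⊤ := by
    intro h
    obtain ⟨g, v, hgv⟩ := hnt
    refine hgv (induction_xy (P := fun g => ∀ v, Φ g v = v) (fun u v => ?_) (fun u v => ?_)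
      (fun g k hg hk v => by rw [apply_mul, hk, hg]) g v)
    · exact (h ▸ Subgroup.mem_top v : v ∈ fixX Φ) u
    · refine fixY_apply_yM Φ ?_ u
      exact ⟨(Φ nM).symm v, h ▸ Subgroup.mem_top _, (Φ nM).apply_symm_apply v⟩
  have hle : ∀ u : F, fixX Φ ≤ (fixX Φ).comap (Φ (xM u)).toMonoidHom := fun u v hv => by
    show Φ (xM u) v ∈ fixX Φ
    rw [hv u]; exact hv
  letI : MulAction (Multiplicative F) (V ⧸ fixX Φ) :=
    { smul := fun u q => QuotientGroup.map _ _ _ (hle u.toAdd) q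
      one_smul := fun q => by
        induction q using QuotientGroup.induction_on with
        | _ v => exact congrArg QuotientGroup.mk (show Φ (xM 0) v = v by rw [xM_zero, map_one]; rfl)
      mul_smul := fun u u' q => by
        induction q using QuotientGroup.induction_on with
        | _ v => exact congrArg QuotientGroup.mk (show Φ (xM (u.toAdd + u'.toAdd)) v =
            Φ (xM u.toAdd) (Φ (xM u'.toAdd) v) by rw [xM_add, apply_mul]) }
  have hU : IsPGroup p (Multiplicative F) := IsPGroup.of_card (n := n) hF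
  have hdvd : p ∣ Nat.card (V ⧸ fixX Φ) := by
    obtain ⟨k, hk⟩ := IsPGroup.iff_card.1 (hV.to_quotient (fixX Φ))
    rcases k with _ | k
    · exact absurd (Subgroup.index_eq_one.1 (by rw [Subgroup.index, hk, pow_zero])) hne
    · exact hk ▸ dvd_pow_self p k.succ_ne_zero
  obtain ⟨q, hq, hq1⟩ := hU.exists_fixed_point_of_prime_dvd_card_of_fixed_point (V ⧸ fixX Φ) hdvd
    (a := ((1 : V) : V ⧸ fixX Φ)) (fun u => congrArg QuotientGroup.mk (map_one _))
  induction q using QuotientGroup.induction_on with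
  | _ v =>
    obtain ⟨a, ha, b, hb, rfl⟩ := hdec v
    have hbW : b ∈ fixYX Φ := by
      refine ⟨hb, fun u => ?_⟩
      have h := QuotientGroup.eq.1 (hq (Multiplicative.ofAdd u))
      have h' : (Φ (xM u) (a * b))⁻¹ * (a * b) ∈ fixX Φ := h
      rw [map_mul, ha u] at h'
      have := inv_mem h'
      rwa [← div_eq_inv_mul, inv_div, mul_div_mul_left_eq_div, div_eq_mul_inv] at this
    rw [hbot, Subgroup.mem_bot] at hbW
    refine hq1 (QuotientGroup.eq.2 ?_).symm
    simpa [hbW] using inv_mem ha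

theorem exists_decomp
    (hyp : (∀ s t v, Φ (xM s) (Φ (xM t) v * v⁻¹) = Φ (xM t) v * v⁻¹) ∨
      Nat.card V ≤ Nat.card (fixX Φ) ^ 2) :
    ∀ v : V, ∃ a ∈ fixX Φ, ∃ b ∈ fixY Φ, a * b = v := by
  rcases hyp with hq | hc
  · set H := fixX Φ ⊔ fixY Φ
    have hH : ∀ g v, Φ g v * v⁻¹ ∈ H := by
      refine induction_xy (P := fun g => ∀ v, Φ g v * v⁻¹ ∈ H)
        (fun u v => Subgroup.mem_sup_left fun s => hq s u v) (fun u v => ?_) (fun g k hg hk v => ?_)
      · refine Subgroup.mem_sup_right ?_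
        set v' := (Φ nM).symm v
        have hv : Φ nM v' = v := (Φ nM).apply_symm_apply v
        rw [← hv, ← apply_mul, yM_mul_nM, apply_mul, ← map_inv, ← map_mul]
        exact nM_mem_fixY Φ fun s => hq s _ v'
      · rw [apply_mul, ← div_eq_mul_inv, ← div_mul_div_cancel _ (Φ k v), div_eq_mul_inv, div_eq_mul_inv]
        exact mul_mem (hg _) (hk _)
    have hinv : ∀ g, ∀ v ∈ H, Φ g v ∈ H := fun g v hv => by
      simpa using mul_mem (hH g v) hv
    rcases hirr H hinv with h | h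
    · obtain ⟨g, v, hgv⟩ := hnt
      have := hH g v
      rw [h, Subgroup.mem_bot, mul_inv_eq_one] at this
      exact absurd this hgv
    · exact fun v => Subgroup.mem_sup.1 (h ▸ Subgroup.mem_top v : v ∈ H)
  · let f : fixX Φ × fixY Φ → V := fun x => x.1 * x.2
    have hf : Function.Injective f := fun x y h => by
      obtain ⟨h1, h2⟩ := eq_of_mul_eq Φ hirr hnt x.1.2 y.1.2 x.2.2 y.2.2 h
      exact Prod.ext (Subtype.ext h1) (Subtype.ext h2)
    have hcard : Nat.card (fixY Φ) = Nat.card (fixX Φ) :=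
      (Nat.card_congr ((fixX Φ).equivMapOfInjective _ (Φ nM).injective).toEquiv).symm
    have hb : Function.Bijective f := (Nat.bijective_iff_injective_and_card f).2 ⟨hf,
      le_antisymm (Nat.card_le_card_of_injective f hf) (by rwa [Nat.card_prod, hcard, ← sq])⟩
    intro v
    obtain ⟨x, hx⟩ := hb.2 v
    exact ⟨_, x.1.2, _, x.2.2, hx⟩

/-- The natural module. -/
theorem exists_coords {p n : ℕ} [Fact p.Prime] [Finite F] (hF : Nat.card F = p ^ n) (hV : IsPGroup p V)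
    (hyp : (∀ s t v, Φ (xM s) (Φ (xM t) v * v⁻¹) = Φ (xM t) v * v⁻¹) ∨
      Nat.card V ≤ Nat.card (fixX Φ) ^ 2) :
    ∃ E : (Fin 2 → F) → V, Function.Bijective E ∧ (∀ x y, E (x + y) = E x * E y) ∧
      ∀ (g : SL(2, F)) x, Φ g (E x) = E ((g : M₂).mulVec x) := by
  have hdec := exists_decomp Φ hirr hnt hyp
  obtain ⟨⟨c, hc⟩, hc1⟩ := Subgroup.ne_bot_iff_exists_ne_one.1 (fixYX_ne_bot Φ hnt hF hV hdec)
  have hc1 : c ≠ 1 := fun h => hc1 (Subtype.ext h)
  let B : F → V := fun z => (Φ nM).symm (Φ (xM (-z)) c * c⁻¹)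
  have hBadd : ∀ z z', B (z + z') = B z * B z' := by
    intro z z'
    show (Φ nM).symm _ = (Φ nM).symm _ * (Φ nM).symm _
    rw [← map_mul]
    congr 1
    rw [neg_add, xM_add, apply_mul]
    have h := hc.2 (-z') (-z)
    rw [map_mul, map_inv, mul_inv_eq_iff_eq_mul] at h
    rw [h]
    simp [mul_comm, mul_left_comm]
  have hB0 : B 0 = 1 := by simp [B, xM_zero]
  have hBu : ∀ s : Fˣ, B ((s⁻¹ : Fˣ) : F) = Φ (dM s) c := by
    intro s
    show (Φ nM).symm _ = _
    rw [MulEquiv.symm_apply_eq, apply_xM Φ hirr hnt hc s, mul_inv_cancel_right, apply_mul]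
  have hBD : ∀ (s : Fˣ) z, Φ (dM s) (B z) = B (z * ((s⁻¹ : Fˣ) : F)) := by
    intro s z
    by_cases hz : z = 0
    · rw [hz, hB0, map_one, zero_mul, hB0]
    · obtain ⟨t, rfl⟩ : ∃ t : Fˣ, z = ((t⁻¹ : Fˣ) : F) := ⟨(Units.mk0 z hz)⁻¹, by simp⟩
      rw [hBu, ← Units.val_mul, ← _root_.mul_inv, hBu, ← apply_mul, ← dM_mul, mul_comm]
  let W : Subgroup V :=
    { carrier := Set.range B
      one_mem' := ⟨0, hB0⟩
      mul_mem' := by rintro _ _ ⟨z, rfl⟩ ⟨z', rfl⟩; exact ⟨z + z', hBadd z z'⟩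
      inv_mem' := by
        rintro _ ⟨z, rfl⟩
        exact ⟨-z, eq_inv_of_mul_eq_one_left (by rw [← hBadd, neg_add_cancel, hB0])⟩ }
  have hBW : ∀ z, B z ∈ fixYX Φ := by
    intro z
    by_cases hz : z = 0
    · rw [hz, hB0]; exact one_mem _
    · obtain ⟨t, rfl⟩ : ∃ t : Fˣ, z = ((t⁻¹ : Fˣ) : F) := ⟨(Units.mk0 z hz)⁻¹, by simp⟩
      rw [hBu]; exact dM_mem_fixYX Φ t hc
  have hWY : fixY Φ ≤ W := fixY_le Φ hirr hnt (by rintro _ ⟨z, rfl⟩; exact hBW z)
    (by rintro s _ ⟨z, rfl⟩; exact ⟨_, (hBD s z).symm⟩)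
    (fun h => hc1 (by
      have : B ((1⁻¹ : Fˣ) : F) ∈ (⊥ : Subgroup V) := h ▸ ⟨_, rfl⟩
      rw [hBu, Subgroup.mem_bot] at this
      exact (MulEquiv.map_eq_one_iff _).1 this))
  let A : F → V := fun a => Φ nM (B (-a))
  have hAX : ∀ a, A a ∈ fixX Φ := fun a => nM_mem_fixX Φ (hBW _).1
  have hBinj : ∀ z, B z = 1 → z = 0 := by
    intro z hz
    by_contra hne
    obtain ⟨t, rfl⟩ : ∃ t : Fˣ, z = ((t⁻¹ : Fˣ) : F) := ⟨(Units.mk0 z hne)⁻¹, by simp⟩
    rw [hBu] at hz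
    exact hc1 ((MulEquiv.map_eq_one_iff _).1 hz)
  have hBcancel : ∀ z z', B z = B z' → z = z' := fun z z' h => by
    have := hBadd (z - z') z'
    rw [sub_add_cancel, h, right_eq_mul] at this
    exact sub_eq_zero.1 (hBinj _ this)
  refine ⟨fun x => A (x 0) * B (x 1), ⟨fun x y h => ?_, fun v => ?_⟩, fun x y => ?_, ?_⟩
  · obtain ⟨h1, h2⟩ := eq_of_mul_eq Φ hirr hnt (hAX _) (hAX _) (hBW _).1 (hBW _).1 h
    ext i
    fin_cases i
    · simpa using hBcancel _ _ ((Φ nM).injective h1)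
    · exact hBcancel _ _ h2
  · obtain ⟨a, ha, b, hb, rfl⟩ := hdec v
    obtain ⟨z', hz'⟩ := hWY hb
    obtain ⟨z, hz⟩ := hWY (nM_mem_fixY Φ (dM_mem_fixX Φ (-1) ha))
    refine ⟨![-z, z'], ?_⟩
    show A (-z) * B z' = a * b
    simp only [A, neg_neg]
    rw [hz, hz', ← apply_mul, ← apply_mul, nM_nM, ← dM_mul, neg_mul_neg, one_mul,
      dM_one, map_one]
    rfl
  · simp only [A, Pi.add_apply, neg_add, hBadd, map_mul]
    exact mul_mul_mul_comm _ _ _ _
  · have hxu : ∀ u a b, Φ (xM u) (A a * B b) = A (a + u * b) * B b := by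
      intro u a b
      rw [map_mul, hAX a u]
      by_cases hu : u = 0
      · rw [hu, xM_zero, map_one, zero_mul, add_zero]; rfl
      · have h := apply_xM Φ hirr hnt (hBW b) (-(Units.mk0 u hu)⁻¹)
        rw [show -(((-(Units.mk0 u hu)⁻¹)⁻¹ : Fˣ) : F) = u by simp] at h
        rw [h, apply_mul, hBD, ← mul_assoc]
        simp only [A, neg_add, hBadd, map_mul]
        simp [mul_comm]
    have hn : ∀ a b, Φ nM (A a * B b) = A (-b) * B a := by
      intro a b
      rw [map_mul, mul_comm]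
      simp only [A, neg_neg]
      rw [← apply_mul, nM_nM, hBD]
      simp
    intro g
    induction g using induction_xy with
    | hx u =>
      intro x
      show Φ (xM u) (A (x 0) * B (x 1)) = _
      rw [hxu]
      simp [xM, Matrix.mulVec, dotProduct, Fin.sum_univ_two]
    | hy u =>
      intro x
      set x' : Fin 2 → F := ![x 1, -(x 0)] with hx'
      have h1 : A (x 0) * B (x 1) = Φ nM (A (x' 0) * B (x' 1)) := by
        rw [hn]; simp [hx']
      show Φ (yM u) (A (x 0) * B (x 1)) = _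
      rw [h1, ← apply_mul, yM_mul_nM, apply_mul, hxu, hn]
      simp [hx', yM, Matrix.mulVec, dotProduct, Fin.sum_univ_two, add_comm]
    | hmul g k hg hk =>
      intro x
      rw [apply_mul, hk, hg, Matrix.SpecialLinearGroup.coe_mul, Matrix.mulVec_mulVec]

end CfsgLib.TwoGroupTricks.SL2Natural
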