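import Cfsg.Prelude.Def_BaumannBlocks
import Cfsg.Agent.Lib.ThompsonJ.Basic
import Cfsg.Agent.Lib.CoprimeAction.Basic
import Cfsg.Agent.Lib.StronglyPEmbedded.Helpers

/-!
The Baumann subgroup is normalised by every Sylow subgroup containing it; `p`-subgroups normalised
by a block and by the Baumann subgroup normalise the block.
-/

set_option autoImplicit false

namespace CfsgLib.TwoGroupTricks

open Cfsg
open scoped commutatorElement

variable {G : Type*} [Group G] {p : ℕ}

theorem normalizer_inf_le {A B : Subgroup G} :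
    Subgroup.normalizer (A : Set G) ⊓ Subgroup.normalizer (B : Set G) ≤
      Subgroup.normalizer ((A ⊓ B : Subgroup G) : Set G) := fun g hg =>
  Subgroup.mem_normalizer_iff.2 fun z => by
    rw [Subgroup.mem_inf, Subgroup.mem_inf, Subgroup.mem_normalizer_iff.1 hg.1 z,
      Subgroup.mem_normalizer_iff.1 hg.2 z]

theorem omegaOne_subset_self (H : Subgroup G) : omegaOne p H ≤ H :=
  (Subgroup.closure_le _).2 fun _ hx => hx.1

theorem normalizer_le_normalizer_omegaOne' [Finite G] (H : Subgroup G) :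
    Subgroup.normalizer (H : Set G) ≤ Subgroup.normalizer (omegaOne p H : Set G) := by
  intro g hg
  refine Subgroup.mem_normalizer_fintype fun x hx => ?_
  have : omegaOne p H ≤ (omegaOne p H).comap (MulAut.conj g).toMonoidHom := by
    refine (Subgroup.closure_le _).2 fun y hy => Subgroup.subset_closure ⟨?_, ?_⟩
    · exact (Subgroup.mem_normalizer_iff.1 hg y).1 hy.1
    · show (g * y * g⁻¹) ^ p = 1
      rw [conj_pow, hy.2, mul_one, mul_inv_cancel]
  exact this hx

theorem normalizer_le_normalizer_centralizer' [Finite G] (H : Subgroup G) :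
    Subgroup.normalizer (H : Set G) ≤ Subgroup.normalizer (Subgroup.centralizer (H : Set G) : Set G) := by
  intro g hg
  refine Subgroup.mem_normalizer_fintype fun x hx => Subgroup.mem_centralizer_iff.2 fun h hh => ?_
  have := Subgroup.mem_centralizer_iff.1 hx _ ((Subgroup.mem_normalizer_iff''.1 hg h).1 hh)
  calc h * (g * x * g⁻¹) = g * ((g⁻¹ * h * g) * x) * g⁻¹ := by group
    _ = g * (x * (g⁻¹ * h * g)) * g⁻¹ := by rw [this]
    _ = g * x * g⁻¹ * h := by group

theorem thompsonSubgroupOf_le_baumann (T : Subgroup G) :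
    thompsonSubgroupOf p T ≤ baumannSubgroupOf p T := by
  refine le_inf (CfsgLib.ThompsonJ.thompsonSubgroupOf_le p T) fun x hx => ?_
  refine Subgroup.mem_centralizer_iff.2 fun z hz => ?_
  exact ((omegaOne_subset_self _ hz).2 x hx).symm

theorem le_normalizer_baumann_self [Finite G] (T : Subgroup G) :
    T ≤ Subgroup.normalizer (baumannSubgroupOf p T : Set G) := by
  intro t ht
  set J := thompsonSubgroupOf p T
  have hJ : t ∈ Subgroup.normalizer (J : Set G) :=
    CfsgLib.ThompsonJ.normalizer_le_normalizer_thompsonSubgroupOf p T (Subgroup.le_normalizer ht)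
  have hZJ : t ∈ Subgroup.normalizer (centerThompsonOf p T : Set G) :=
    normalizer_inf_le ⟨hJ, normalizer_le_normalizer_centralizer' J hJ⟩
  have hC := normalizer_le_normalizer_centralizer' _ (normalizer_le_normalizer_omegaOne' (p := p) _ hZJ)
  exact normalizer_inf_le ⟨Subgroup.le_normalizer ht, hC⟩

/-- The Baumann subgroup of a Sylow subgroup is that of every Sylow subgroup containing it. -/
theorem baumann_eq_of_le [Finite G] [Fact p.Prime] (T S : Sylow p G)
    (h : baumannSubgroupOf p (T : Subgroup G) ≤ S) :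
    baumannSubgroupOf p (S : Subgroup G) = baumannSubgroupOf p (T : Subgroup G) := by
  have hJS : thompsonSubgroupOf p (T : Subgroup G) ≤ S := (thompsonSubgroupOf_le_baumann _).trans h
  obtain ⟨g, hg⟩ := MulAction.exists_smul_eq G T S
  have hJ : thompsonSubgroupOf p (S : Subgroup G) = thompsonSubgroupOf p (T : Subgroup G) := by
    refine (Subgroup.eq_of_le_of_card_ge (CfsgLib.ThompsonJ.thompsonSubgroupOf_le_iff.2 fun A hA => ?_) ?_).symm
    · exact CfsgLib.ThompsonJ.le_thompsonSubgroupOf ((CfsgLib.ThompsonJ.isMaxEA_sylow_iff S).2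
        ⟨(CfsgLib.ThompsonJ.le_thompsonSubgroupOf hA).trans hJS,
          ((CfsgLib.ThompsonJ.isMaxEA_sylow_iff T).1 hA).2⟩)
    · rw [← hg, Sylow.coe_subgroup_smul]
      refine le_of_eq ?_
      show Nat.card (thompsonSubgroupOf p ((T : Subgroup G).map (MulAut.conj g).toMonoidHom)) = _
      rw [CfsgLib.ThompsonJ.thompsonSubgroupOf_conj, Subgroup.card_map_of_injective (MulAut.conj g).injective]
  set Z := omegaOne p (centerThompsonOf p (T : Subgroup G)) with hZ
  have hZS : omegaOne p (centerThompsonOf p (S : Subgroup G)) = Z := by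
    rw [hZ]; unfold centerThompsonOf; rw [hJ]
  have hTN : (T : Subgroup G) ≤ Subgroup.normalizer (Z : Set G) := fun t ht => by
    have hJ' : t ∈ Subgroup.normalizer (thompsonSubgroupOf p (T : Subgroup G) : Set G) :=
      CfsgLib.ThompsonJ.normalizer_le_normalizer_thompsonSubgroupOf p _ (Subgroup.le_normalizer ht)
    exact normalizer_le_normalizer_omegaOne' _ (normalizer_inf_le
      ⟨hJ', normalizer_le_normalizer_centralizer' _ hJ'⟩)
  set N := Subgroup.normalizer (Z : Set G)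
  set C := Subgroup.centralizer (Z : Set G)
  have hCN : C ≤ N := Subgroup.centralizer_le_normalizer _
  haveI : (C.subgroupOf N).Normal := inferInstance
  obtain ⟨Q, hQ⟩ := CfsgLib.StronglyPEmbedded.exists_sylow_subgroupOf_eq (T.subtype hTN)
    (A := C.subgroupOf N) (Subgroup.Normal.isSubnormal inferInstance)
  unfold baumannSubgroupOf
  rw [hZS, ← hZ]
  have hle : (T : Subgroup G) ⊓ C ≤ (S : Subgroup G) ⊓ C := le_inf h inf_le_right
  refine le_antisymm (fun x hx => ?_) hle
  have hp : IsPGroup p ((((S : Subgroup G) ⊓ C).subgroupOf N).subgroupOf (C.subgroupOf N)) :=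
    ((S.2.to_le inf_le_left).comap_subtype).comap_subtype
  have heq := Q.3 hp (fun y hy => by
    rw [hQ] at hy
    exact hle ⟨hy, y.2⟩)
  have : (⟨⟨x, hCN hx.2⟩, hx.2⟩ : C.subgroupOf N) ∈ (Q : Subgroup (C.subgroupOf N)) := heq ▸ hx
  rw [hQ] at this
  exact ⟨this, hx.2⟩

theorem le_normalizer_of_commutator_eq [Finite G] {E B : Subgroup G} (hEB : ⁅E, B⁆ = E) :
    B ≤ Subgroup.normalizer (E : Set G) := by
  have h := CfsgLib.CoprimeAction.sup_le_normalizer_commutator B E
  rw [hEB] at h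
  exact le_sup_right.trans h

/-- A `p`-subgroup `Q` normalising `B` and normalised by `B` and by `E = O^p(E) = [E, B]`
normalises `E`. -/
theorem le_normalizer_of_pResidual_eq [Finite G] [Fact p.Prime] {E B Q : Subgroup G}
    (hres : pResidualOf p E = E) (hEB : ⁅E, B⁆ = E) (hQ : IsPGroup p Q)
    (hBQ : B ≤ Subgroup.normalizer (Q : Set G)) (hEQ : E ≤ Subgroup.normalizer (Q : Set G))
    (hQB : Q ≤ Subgroup.normalizer (B : Set G)) : Q ≤ Subgroup.normalizer (E : Set G) := by
  have hBE := le_normalizer_of_commutator_eq hEB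
  set M := Subgroup.closure {z : G | ∃ e ∈ E, ∃ n ∈ B ⊓ Q, z = e * n * e⁻¹} with hM
  have hgen : ∀ e ∈ E, ∀ n ∈ B ⊓ Q, e * n * e⁻¹ ∈ M := fun e he n hn =>
    Subgroup.subset_closure ⟨e, he, n, hn, rfl⟩
  have hMD : M ≤ (B ⊓ Q) ⊔ (E ⊓ Q) := by
    refine (Subgroup.closure_le _).2 ?_
    rintro _ ⟨e, he, n, hn, rfl⟩
    rw [show e * n * e⁻¹ = (e * n * e⁻¹ * n⁻¹) * n by group]
    refine mul_mem (Subgroup.mem_sup_right ⟨?_, ?_⟩) (Subgroup.mem_sup_left hn)
    · rw [show e * n * e⁻¹ * n⁻¹ = e * (n * e⁻¹ * n⁻¹) by group]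
      exact mul_mem he ((Subgroup.mem_normalizer_iff.1 (hBE hn.1) _).1 (inv_mem he))
    · exact Q.mul_mem ((Subgroup.mem_normalizer_iff.1 (hEQ he) n).1 hn.2) (Q.inv_mem hn.2)
  have hMconj : ∀ g : G, (∀ e ∈ E, ∀ n ∈ B ⊓ Q, g * (e * n * e⁻¹) * g⁻¹ ∈ M) →
      g ∈ Subgroup.normalizer (M : Set G) := by
    intro g hg
    refine Subgroup.mem_normalizer_fintype fun z hz => ?_
    have : M ≤ M.comap (MulAut.conj g).toMonoidHom := by
      refine (Subgroup.closure_le _).2 ?_
      rintro _ ⟨e, he, n, hn, rfl⟩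
      exact hg e he n hn
    exact this hz
  have hEM : E ≤ Subgroup.normalizer (M : Set G) := fun g hg => hMconj g fun e he n hn => by
    rw [show g * (e * n * e⁻¹) * g⁻¹ = (g * e) * n * (g * e)⁻¹ by group]
    exact hgen _ (mul_mem hg he) n hn
  have hQM : Q ≤ Subgroup.normalizer (M : Set G) := fun g hg => hMconj g fun e he n hn => by
    set q := e⁻¹ * g * e
    have hq : q ∈ Q := by
      have := (Subgroup.mem_normalizer_iff.1 (hEQ (inv_mem he)) g).1 hg
      simpa using this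
    rw [show g * (e * n * e⁻¹) * g⁻¹ = e * (q * n * q⁻¹) * e⁻¹ by simp only [q]; group]
    exact hgen e he _ ⟨(Subgroup.mem_normalizer_iff.1 (hQB hq) n).1 hn.1,
      Q.mul_mem (Q.mul_mem hq hn.2) (Q.inv_mem hq)⟩
  have hBM : B ≤ Subgroup.normalizer (M : Set G) := fun g hg => hMconj g fun e he n hn => by
    rw [show g * (e * n * e⁻¹) * g⁻¹ = (g * e * g⁻¹) * (g * n * g⁻¹) * (g * e * g⁻¹)⁻¹ by group]
    exact hgen _ ((Subgroup.mem_normalizer_iff.1 (hBE hg) e).1 he) _
      ⟨B.mul_mem (B.mul_mem hg hn.1) (B.inv_mem hg), (Subgroup.mem_normalizer_iff.1 (hBQ hg) n).1 hn.2⟩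
  have hBQM : ∀ b ∈ B, ∀ q ∈ Q, b * q * b⁻¹ * q⁻¹ ∈ M := by
    intro b hb q hq
    have h1 : b * q * b⁻¹ * q⁻¹ ∈ B ⊓ Q := by
      refine ⟨?_, Q.mul_mem ((Subgroup.mem_normalizer_iff.1 (hBQ hb) q).1 hq) (Q.inv_mem hq)⟩
      rw [show b * q * b⁻¹ * q⁻¹ = b * (q * b⁻¹ * q⁻¹) by group]
      exact mul_mem hb ((Subgroup.mem_normalizer_iff.1 (hQB hq) _).1 (inv_mem hb))
    simpa using hgen 1 (one_mem _) _ h1
  -- `E` centralizes `Q` modulo `M`
  have hEQM : ∀ x ∈ E, ∀ q ∈ Q, x * q * x⁻¹ * q⁻¹ ∈ M := by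
    intro x hx
    rw [← hEB, Subgroup.commutator_def] at hx
    induction hx using Subgroup.closure_induction with
    | one => intro q _; simp
    | mul a b ha hb iha ihb =>
      intro q hq
      have haE : a ∈ E := by rw [← hEB, Subgroup.commutator_def]; exact ha
      rw [show a * b * q * (a * b)⁻¹ * q⁻¹ = (a * (b * q * b⁻¹ * q⁻¹) * a⁻¹) * (a * q * a⁻¹ * q⁻¹) by group]
      exact mul_mem ((Subgroup.mem_normalizer_iff.1 (hEM haE) _).1 (ihb q hq)) (iha q hq)
    | inv a ha iha =>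
      intro q hq
      have haE : a ∈ E := by rw [← hEB, Subgroup.commutator_def]; exact ha
      rw [show a⁻¹ * q * a⁻¹⁻¹ * q⁻¹ = a⁻¹ * (a * q * a⁻¹ * q⁻¹)⁻¹ * a⁻¹⁻¹ by group]
      exact (Subgroup.mem_normalizer_iff.1 (hEM (inv_mem haE)) _).1 (inv_mem (iha q hq))
    | mem y hy =>
      obtain ⟨e, he, b, hb, rfl⟩ := hy
      intro q hq
      rw [commutatorElement_def]
      -- `q ↦ b q b⁻¹` and `q ↦ b⁻¹ q b` are trivial modulo `M`
      set q1 := e⁻¹ * (b⁻¹ * q * b) * e with hq1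
      have hq0 : b⁻¹ * q * b ∈ Q := by
        simpa using (Subgroup.mem_normalizer_iff.1 (hBQ (inv_mem hb)) q).1 hq
      have hq1Q : q1 ∈ Q := by
        simpa using (Subgroup.mem_normalizer_iff.1 (hEQ (inv_mem he)) _).1 hq0
      have h1 := hBQM b hb q1 hq1Q
      have h2 := hBQM b⁻¹ (inv_mem hb) q hq
      rw [show e * b * e⁻¹ * b⁻¹ * q * (e * b * e⁻¹ * b⁻¹)⁻¹ * q⁻¹ =
          (e * (b * q1 * b⁻¹ * q1⁻¹) * e⁻¹) * (b⁻¹ * q * b⁻¹⁻¹ * q⁻¹) by simp only [hq1]; group]
      exact mul_mem ((Subgroup.mem_normalizer_iff.1 (hEM he) _).1 h1) h2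
  set D := (B ⊓ Q) ⊔ (E ⊓ Q) with hD
  have hDE : D ≤ Subgroup.normalizer (E : Set G) :=
    sup_le (inf_le_left.trans hBE) (inf_le_left.trans Subgroup.le_normalizer)
  have hgen' : ∀ q ∈ Q, E ≤ E.comap (MulAut.conj q).toMonoidHom := by
    intro q hq
    nth_rewrite 1 [← hres]
    rw [pResidualOf, pResidual, MonoidHom.map_closure]
    refine (Subgroup.closure_le _).2 ?_
    rintro _ ⟨x, hxc, rfl⟩
    show q * (x : G) * q⁻¹ ∈ E
    have hxo : (orderOf (x : G)).Coprime p := by rwa [Subgroup.orderOf_coe]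
    have hcop : (Nat.card (Subgroup.zpowers (x : G))).Coprime (Nat.card Q) := by
      obtain ⟨k, hk⟩ := IsPGroup.iff_card.1 hQ
      rw [Nat.card_zpowers, hk]
      exact hxo.pow_right k
    have hxN : Subgroup.zpowers (x : G) ≤ Subgroup.normalizer (Q : Set G) :=
      Subgroup.zpowers_le.2 (hEQ x.2)
    have hle : ⁅Q, Subgroup.zpowers (x : G)⁆ ≤ D := by
      rw [Subgroup.commutator_le]
      rintro q' hq' _ ⟨k, rfl⟩
      have := hEQM _ (E.zpow_mem x.2 k) q' hq'
      rw [commutatorElement_def, show q' * (x : G) ^ k * q'⁻¹ * ((x : G) ^ k)⁻¹ =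
        ((x : G) ^ k * q' * ((x : G) ^ k)⁻¹ * q'⁻¹)⁻¹ by group]
      exact hMD (inv_mem this)
    have h3 : ⁅⁅Q, Subgroup.zpowers (x : G)⁆, Subgroup.zpowers (x : G)⁆ ≤ E := by
      rw [Subgroup.commutator_le]
      intro d hd z hz
      rw [commutatorElement_def]
      exact mul_mem ((Subgroup.mem_normalizer_iff.1 (hDE (hle hd)) z).1 (Subgroup.zpowers_le.2 x.2 hz))
        (inv_mem (Subgroup.zpowers_le.2 x.2 hz))
    have h4 := h3 (show ⁅q, (x : G)⁆ ∈ _ by
      rw [CfsgLib.CoprimeAction.commutator_commutator_eq hxN hcop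
        (Or.inl (CfsgLib.CoprimeAction.isSolvable_zpowers _))]
      exact Subgroup.commutator_mem_commutator hq (Subgroup.mem_zpowers _))
    rw [commutatorElement_def] at h4
    simpa using mul_mem h4 x.2
  intro q hq
  exact Subgroup.mem_normalizer_fintype fun z hz => hgen' q hq hz

/-- A `p`-subgroup normalised by a block and by the Baumann subgroup normalises the block. -/
theorem le_normalizer_of_block [Finite G] [Fact p.Prime] (T : Sylow p G) {E : Subgroup G}
    (hres : pResidualOf p E = E) (hEB : ⁅E, baumannSubgroupOf p (T : Subgroup G)⁆ = E)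
    {Q : Subgroup G} (hQ : IsPGroup p Q)
    (hBQ : baumannSubgroupOf p (T : Subgroup G) ≤ Subgroup.normalizer (Q : Set G))
    (hEQ : E ≤ Subgroup.normalizer (Q : Set G)) : Q ≤ Subgroup.normalizer (E : Set G) := by
  obtain ⟨S, hS⟩ := (IsPGroup.to_sup_of_normal_right' (T.2.to_le inf_le_left) hQ hBQ).exists_le_sylow
  refine le_normalizer_of_pResidual_eq hres hEB hQ hBQ hEQ ?_
  rw [← baumann_eq_of_le T S (le_sup_left.trans hS)]
  exact (le_sup_right.trans hS).trans (le_normalizer_baumann_self _)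

end CfsgLib.TwoGroupTricks
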