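import Mathlib
import Cfsg.Agent.Lib.TwoGroupTricks.Isolated
import Cfsg.Agent.Lib.Cores.PCore

/-!
Elementary structure of a minimal counterexample to the odd analogue of the Z*-theorem.
-/

set_option autoImplicit false

namespace CfsgLib.TwoGroupTricks

open Cfsg
open scoped commutatorElement

variable {G : Type*} [Group G] [Finite G] {p : ℕ} [Fact p.Prime]

/-- The hypotheses of a minimal counterexample. -/
structure IsolatedMin (p : ℕ) (x : G) : Prop where
  ord : orderOf x = p
  iso : IsIsolated x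
  notZ : ¬ InZStar p x
  proper : ∀ (H : Subgroup G) (hxH : x ∈ H), H ≠ ⊤ → InZStar p (⟨x, hxH⟩ : ↥H)
  quot : ∀ (N : Subgroup G) [N.Normal], N ≠ ⊥ → InZStar p (QuotientGroup.mk x : G ⧸ N)

variable {x : G} (h : IsolatedMin p x)
include h

omit [Finite G] [Fact p.Prime] in
theorem IsolatedMin.not_forall_conj_eq : ¬ ∀ g : G, g * x * g⁻¹ = x := fun hall =>
  h.notZ fun g => by rw [hall g, mul_inv_cancel]; exact one_mem _

theorem IsolatedMin.isPGroup_zpowers : IsPGroup p (Subgroup.zpowers x) :=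
  CfsgLib.TwoGroupTricks.isPGroup_zpowers ⟨1, by rw [h.ord, pow_one]⟩

theorem IsolatedMin.pPrimeCore_eq_bot : pPrimeCore p G = ⊥ := by
  by_contra hne
  apply h.notZ
  intro g
  have h1 := h.quot (pPrimeCore p G) hne (QuotientGroup.mk g)
  rw [← CfsgLib.Cores.comap_pPrimeCore_quotient (p := p) (pPrimeCore p G)
    (CfsgLib.Cores.card_pPrimeCore_coprime p)]
  exact h1

theorem IsolatedMin.pPrimeCore_subnormal_eq_bot {K : Subgroup G} (hK : K.IsSubnormal) :
    (pPrimeCore p K).map K.subtype = ⊥ :=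
  le_bot_iff.1 (h.pPrimeCore_eq_bot ▸ CfsgLib.Cores.map_subtype_pPrimeCore_le hK)

/-- No proper normal subgroup contains `x`. -/
theorem IsolatedMin.eq_top_of_normal {K : Subgroup G} [hK : K.Normal] (hx : x ∈ K) : K = ⊤ := by
  by_contra hne
  apply h.not_forall_conj_eq
  intro g
  refine h.iso g ?_
  have hy : g * x * g⁻¹ ∈ K := hK.conj_mem x hx g
  have h1 := h.proper K hx hne ⟨_, hy⟩
  have h2 := Subgroup.mem_map_of_mem K.subtype h1
  rw [h.pPrimeCore_subnormal_eq_bot (Subgroup.Normal.isSubnormal hK), Subgroup.mem_bot] at h2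
  simp only [Subgroup.coe_subtype, Subgroup.coe_mul, Subgroup.coe_inv] at h2
  exact (mul_inv_eq_iff_eq_mul.1 (mul_inv_eq_one.1 h2)).symm

omit h in
theorem coprime_card_of_forall_ne {N : Subgroup G} (hN : ∀ y ∈ N, orderOf y ≠ p) :
    (Nat.card N).Coprime p := by
  rw [Nat.coprime_comm, (Fact.out : p.Prime).coprime_iff_not_dvd]
  intro hd
  obtain ⟨⟨y, hy⟩, ho⟩ := exists_prime_orderOf_dvd_card' p hd
  rw [Subgroup.orderOf_mk] at ho
  exact hN y hy ho

theorem IsolatedMin.eq_bot_of_isPGroup {N : Subgroup G} [hN : N.Normal] (hp : IsPGroup p N) : N = ⊥ := by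
  by_contra hne
  -- `N` is central
  have hxc : x ∈ Subgroup.centralizer (N : Set G) := Subgroup.mem_centralizer_iff.2 fun n hn =>
    ((commute_of_mem h.iso (R := Subgroup.zpowers x ⊔ N) (h.isPGroup_zpowers.to_sup_of_normal_right hp)
      (Subgroup.mem_sup_left (Subgroup.mem_zpowers x)) (Subgroup.mem_sup_right hn)).eq).symm
  have hC : Subgroup.centralizer (N : Set G) = ⊤ := by
    have : (Subgroup.centralizer (N : Set G)).Normal := Subgroup.normal_centralizer
    exact h.eq_top_of_normal hxc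
  have hcent : ∀ n ∈ N, ∀ g : G, g * n = n * g := fun n hn g =>
    (Subgroup.mem_centralizer_iff.1 (hC ▸ Subgroup.mem_top g : g ∈ Subgroup.centralizer (N : Set G)) n hn).symm
  set M := (pPrimeCore p (G ⧸ N)).comap (QuotientGroup.mk' N) with hM
  have hNM : N ≤ M := fun n hn => by
    rw [hM, Subgroup.mem_comap, QuotientGroup.mk'_apply, (QuotientGroup.eq_one_iff n).2 hn]
    exact one_mem _
  have hidx : (N.subgroupOf M).index.Coprime p := by
    show (N.relIndex M).Coprime p
    rw [← QuotientGroup.ker_mk' N, Subgroup.relIndex_ker, hM,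
      Subgroup.map_comap_eq_self_of_surjective (QuotientGroup.mk'_surjective N)]
    exact CfsgLib.Cores.card_pPrimeCore_coprime p
  let P : Sylow p M := IsPGroup.toSylow (hp.comap_subtype (K := M))
    ((Fact.out : p.Prime).coprime_iff_not_dvd.1 hidx.symm)
  have hPc : Subgroup.normalizer ((P : Subgroup M) : Set M) ≤ Subgroup.centralizer ((P : Subgroup M) : Set M) :=
    fun a _ => Subgroup.mem_centralizer_iff.2 fun n hn => Subtype.ext ((hcent n hn a).symm)
  have hcompl := MonoidHom.ker_transferSylow_isComplement' P hPc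
  set K := (MonoidHom.transferSylow P hPc).ker
  have hKc : (Nat.card K).Coprime p := by
    rw [Nat.coprime_comm, (Fact.out : p.Prime).coprime_iff_not_dvd]
    intro hd
    exact P.not_dvd_index (by rwa [Subgroup.IsComplement'.index_eq_card hcompl])
  have hK0 : K = ⊥ := by
    have h1 : K.map M.subtype = ⊥ := le_bot_iff.1
      (h.pPrimeCore_subnormal_eq_bot (Subgroup.Normal.isSubnormal (inferInstance : M.Normal)) ▸
        Subgroup.map_mono (CfsgLib.Cores.le_pPrimeCore hKc))
    exact (Subgroup.map_eq_bot_iff_of_injective _ M.subtype_injective).1 h1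
  have hMN : M ≤ N := by
    intro m hm
    have h1 : (⟨m, hm⟩ : M) ∈ (⊤ : Subgroup M) := Subgroup.mem_top _
    rw [← hcompl.sup_eq_top, hK0, bot_sup_eq] at h1
    exact h1
  apply h.not_forall_conj_eq
  intro g
  have h1 : g * x * g⁻¹ * x⁻¹ ∈ N := hMN (h.quot N hne (QuotientGroup.mk g))
  refine h.iso g ?_
  have h2 := Commute.mul_right (hcent _ h1 x : Commute x (g * x * g⁻¹ * x⁻¹)) (Commute.refl x)
  rwa [inv_mul_cancel_right] at h2

theorem IsolatedMin.sup_zpowers_eq_top {N : Subgroup G} [hN : N.Normal] (hne : N ≠ ⊥) :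
    N ⊔ Subgroup.zpowers x = ⊤ := by
  by_contra hH
  set H := N ⊔ Subgroup.zpowers x with hHdef
  have hxH : x ∈ H := Subgroup.mem_sup_right (Subgroup.mem_zpowers x)
  -- `x` centralizes `N`
  have hxN : x ∈ Subgroup.centralizer (N : Set G) := by
    refine Subgroup.mem_centralizer_iff.2 fun n hn => ?_
    have h1 := h.proper H hxH hH ⟨n, Subgroup.mem_sup_left hn⟩
    set X := (pPrimeCore p H).map H.subtype ⊓ N with hX
    have hX0 : X = ⊥ := by
      have hXle : X ≤ N := inf_le_right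
      have hHn : H ≤ Subgroup.normalizer (X : Set G) := by
        intro a ha
        refine Subgroup.mem_normalizer_fintype fun y hy => ⟨?_, hN.conj_mem y hy.2 a⟩
        obtain ⟨z, hz, rfl⟩ := hy.1
        exact ⟨(⟨a, ha⟩ : H) * z * (⟨a, ha⟩ : H)⁻¹,
          (inferInstance : (pPrimeCore p H).Normal).conj_mem z hz _, rfl⟩
      have hnN : (X.subgroupOf N).Normal :=
        Subgroup.normal_subgroupOf_of_le_normalizer (le_sup_left.trans hHn)
      have hsub : X.IsSubnormal :=
        Subgroup.IsSubnormal.step X N hXle (Subgroup.Normal.isSubnormal hN) hnN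
      refine le_bot_iff.1 (h.pPrimeCore_eq_bot ▸ CfsgLib.Cores.le_pPrimeCore_of_subnormal hsub ?_)
      refine Nat.Coprime.coprime_dvd_left (Subgroup.card_dvd_of_le inf_le_left) ?_
      rw [Subgroup.card_subtype]
      exact CfsgLib.Cores.card_pPrimeCore_coprime p
    have h2 : n * x * n⁻¹ * x⁻¹ ∈ X := by
      refine ⟨⟨_, h1, by simp⟩, ?_⟩
      rw [show n * x * n⁻¹ * x⁻¹ = n * (x * n⁻¹ * x⁻¹) by group]
      exact mul_mem hn (hN.conj_mem _ (inv_mem hn) x)
    rw [hX0, Subgroup.mem_bot] at h2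
    exact mul_inv_eq_iff_eq_mul.1 (mul_inv_eq_one.1 h2)
  have : (Subgroup.centralizer (N : Set G)).Normal := Subgroup.normal_centralizer
  have hC := h.eq_top_of_normal hxN
  apply hne
  refine le_bot_iff.1 (h.pPrimeCore_eq_bot ▸ CfsgLib.Cores.le_pPrimeCore (coprime_card_of_forall_ne fun y hy ho => ?_))
  have : (Subgroup.zpowers y).Normal := by
    constructor
    intro z hz g
    have hz' : z ∈ N := (Subgroup.zpowers_le.2 hy) hz
    rwa [← Subgroup.mem_centralizer_iff.1 (hC ▸ Subgroup.mem_top g : g ∈ Subgroup.centralizer (N : Set G)) z hz',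
      mul_inv_cancel_right]
  have h0 := h.eq_bot_of_isPGroup (N := Subgroup.zpowers y)
    (CfsgLib.TwoGroupTricks.isPGroup_zpowers ⟨1, by rw [ho, pow_one]⟩)
  rw [Subgroup.zpowers_eq_bot] at h0
  exact (Fact.out : p.Prime).ne_one (by rw [← ho, h0, orderOf_one])

theorem IsolatedMin.commutator_le {N : Subgroup G} [hN : N.Normal] (hne : N ≠ ⊥) : commutator G ≤ N := by
  have key : ∀ a : G, ∃ i : ℤ, (QuotientGroup.mk a : G ⧸ N) = QuotientGroup.mk x ^ i := fun a => by
    obtain ⟨n, hn, z, hz, rfl⟩ := (Subgroup.mem_sup_of_normal_left (s := N)).1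
      ((h.sup_zpowers_eq_top hne).symm ▸ Subgroup.mem_top a)
    obtain ⟨i, rfl⟩ := hz
    exact ⟨i, by rw [QuotientGroup.mk_mul, (QuotientGroup.eq_one_iff n).2 hn, one_mul]; rfl⟩
  rw [commutator_def, Subgroup.commutator_le]
  intro a _ b _
  obtain ⟨i, hi⟩ := key a
  obtain ⟨j, hj⟩ := key b
  rw [← QuotientGroup.eq_one_iff]
  change QuotientGroup.mk' N ⁅a, b⁆ = 1
  rw [map_commutatorElement, commutatorElement_eq_one_iff_commute]
  change Commute (QuotientGroup.mk a : G ⧸ N) (QuotientGroup.mk b)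
  rw [hi, hj]
  exact Commute.zpow_zpow_self _ i j

theorem IsolatedMin.commutator_ne_bot : commutator G ≠ ⊥ := fun h0 => by
  apply h.not_forall_conj_eq
  intro g
  have h1 : ⁅g, x⁆ ∈ commutator G :=
    Subgroup.commutator_mem_commutator (Subgroup.mem_top g) (Subgroup.mem_top x)
  rw [h0, Subgroup.mem_bot, commutatorElement_def, mul_inv_eq_one] at h1
  exact h1

theorem IsolatedMin.isSimple_commutator : IsSimpleGroup ↥(commutator G) := by
  set N := commutator G with hN
  have hNn : Nontrivial N := (Subgroup.nontrivial_iff_ne_bot N).2 h.commutator_ne_bot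
  obtain ⟨T, ⟨hTn, hTne⟩, hTmin⟩ := Set.exists_min_image {M : Subgroup N | M.Normal ∧ M ≠ ⊥}
    (fun M => Nat.card M) (Set.toFinite _) ⟨⊤, inferInstance, top_ne_bot⟩
  set T' := T.map N.subtype with hT'
  have hNT' : N ≤ Subgroup.normalizer (T' : Set G) := by
    have := Subgroup.le_normalizer_map N.subtype (H := T)
    rwa [Subgroup.normalizer_eq_top, ← MonoidHom.range_eq_map, Subgroup.range_subtype] at this
  have hT'sub : T'.IsSubnormal :=
    Subgroup.IsSubnormal.step T' N (Subgroup.map_subtype_le T) (Subgroup.Normal.isSubnormal inferInstance)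
      (Subgroup.normal_subgroupOf_of_le_normalizer hNT')
  have hT'ne : T' ≠ ⊥ := fun h0 => hTne ((Subgroup.map_eq_bot_iff_of_injective _ N.subtype_injective).1 h0)
  -- an element of order `p` in `T'` commuting with `x`
  obtain ⟨y, hy, ho⟩ : ∃ y ∈ T', orderOf y = p := by
    by_contra! hno
    exact hT'ne (le_bot_iff.1 (h.pPrimeCore_eq_bot ▸
      CfsgLib.Cores.le_pPrimeCore_of_subnormal hT'sub (coprime_card_of_forall_ne hno)))
  obtain ⟨P, hP⟩ := h.isPGroup_zpowers.exists_le_sylow
  have hxP : x ∈ (P : Subgroup G) := hP (Subgroup.mem_zpowers x)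
  obtain ⟨Q, hQ⟩ := (CfsgLib.TwoGroupTricks.isPGroup_zpowers (x := y)
    ⟨1, by rw [ho, pow_one]⟩).exists_le_sylow
  obtain ⟨g, hg⟩ := MulAction.exists_smul_eq G Q P
  obtain ⟨n, hn, z, hz, rfl⟩ := (Subgroup.mem_sup_of_normal_left (s := N)).1
    ((h.sup_zpowers_eq_top h.commutator_ne_bot).symm ▸ Subgroup.mem_top g⁻¹ : g⁻¹ ∈ N ⊔ Subgroup.zpowers x) |>
      fun ⟨n, hn, z, hz, e⟩ => (⟨n, hn, z, hz, (inv_eq_iff_eq_inv.1 e.symm)⟩ :
        ∃ n ∈ N, ∃ z ∈ Subgroup.zpowers x, g = (n * z)⁻¹)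
  have hw : n⁻¹ * y * n ∈ (P : Subgroup G) := by
    have h1 : (n * z)⁻¹ * y * (n * z) ∈ (P : Subgroup G) := by
      rw [← hg, Sylow.coe_subgroup_smul, Subgroup.mem_pointwise_smul_iff_inv_smul_mem]
      simpa [MulAut.smul_def, mul_assoc] using hQ (Subgroup.mem_zpowers y)
    have hzP : z ∈ (P : Subgroup G) := hP hz
    have := mul_mem (mul_mem hzP h1) (inv_mem hzP)
    simpa [mul_assoc] using this
  have hwT : n⁻¹ * y * n ∈ T' := by
    simpa using (Subgroup.mem_normalizer_iff.1 (hNT' (inv_mem hn)) y).1 hy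
  set w := n⁻¹ * y * n
  have hw1 : w ≠ 1 := by
    intro h1
    have : y = 1 := by
      have := congrArg (fun t => n * t * n⁻¹) h1
      simpa [w, mul_assoc] using this
    exact (Fact.out : p.Prime).ne_one (by rw [← ho, this, orderOf_one])
  have hxw : Commute x w := commute_of_mem h.iso P.2 hxP hw
  -- `x` normalizes `T'`
  set e : N ≃* N := MulAut.conjNormal x
  set T2 := T.map e.toMonoidHom
  have hT2n : T2.Normal := hTn.map _ e.surjective
  obtain ⟨wT, hwT', hwe⟩ := hwT
  have hi : T ⊓ T2 ≠ ⊥ := by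
    intro h0
    have hfix : e wT = wT := Subtype.ext (by
      show ((MulAut.conjNormal x wT : N) : G) = (wT : G)
      rw [MulAut.conjNormal_apply, show (wT : G) = w from hwe, hxw.eq, mul_inv_cancel_right])
    have : wT ∈ T ⊓ T2 := ⟨hwT', ⟨wT, hwT', hfix⟩⟩
    rw [h0, Subgroup.mem_bot] at this
    exact hw1 (by rw [← hwe, this]; rfl)
  have hTT2 : T ≤ T2 := inf_eq_left.1
    (Subgroup.eq_of_le_of_card_ge inf_le_left (hTmin _ ⟨Subgroup.normal_inf_normal T T2, hi⟩))
  have hxT : x ∈ Subgroup.normalizer (T' : Set G) := by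
    have heq : T = T2 := Subgroup.eq_of_le_of_card_ge hTT2
      (Subgroup.card_map_of_injective (f := e.toMonoidHom) e.injective).le
    refine Subgroup.mem_normalizer_fintype ?_
    rintro _ ⟨a, ha, rfl⟩
    exact ⟨e a, heq.symm ▸ Subgroup.mem_map_of_mem _ ha, MulAut.conjNormal_apply x a⟩
  have hT'n : T'.Normal := Subgroup.normalizer_eq_top_iff.1 (top_le_iff.1
    ((h.sup_zpowers_eq_top h.commutator_ne_bot) ▸ sup_le hNT' ((Subgroup.zpowers_le).2 hxT)))
  have hTtop : T = ⊤ := by
    rw [Subgroup.eq_top_iff']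
    intro a
    obtain ⟨b, hb, hba⟩ := (h.commutator_le (N := T') hT'ne) a.2
    rwa [Subtype.ext hba] at hb
  refine ⟨fun M hM => ?_⟩
  rcases eq_or_ne M ⊥ with h0 | h0
  · exact Or.inl h0
  · exact Or.inr (Subgroup.eq_top_of_card_eq M (le_antisymm (Subgroup.card_le_card_group M)
      (by rw [← Subgroup.card_top (G := N), ← hTtop]; exact hTmin M ⟨hM, h0⟩)))

theorem IsolatedMin.not_isMulCommutative_commutator : ¬ IsMulCommutative ↥(commutator G) := by
  intro hc
  have := h.isSimple_commutator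
  letI : CommGroup ↥(commutator G) := IsMulCommutative.instCommGroup
  have hpr : (Nat.card ↥(commutator G)).Prime := IsSimpleGroup.prime_card
  rcases (Nat.coprime_or_dvd_of_prime (Fact.out : p.Prime) (Nat.card ↥(commutator G))) with hcp | hd
  · exact h.commutator_ne_bot (le_bot_iff.1 (h.pPrimeCore_eq_bot ▸ CfsgLib.Cores.le_pPrimeCore hcp.symm))
  · have : Nat.card ↥(commutator G) = p := ((Nat.prime_dvd_prime_iff_eq Fact.out hpr).1 hd).symm
    exact h.commutator_ne_bot (h.eq_bot_of_isPGroup (IsPGroup.of_card (n := 1) (by rw [this, pow_one])))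

end CfsgLib.TwoGroupTricks
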